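import Mathlib

/-! Descending the vanishing of an element of a tensor product to a finitely presented algebra. -/

open TensorProduct

universe u v

namespace Groth.Agent.Helper7.IndSmooth

section Coord

variable (R : Type u) [CommRing R] (ι : Type v) [DecidableEq ι]

/-- coordinates of an element of `X ⊗ (ι →₀ R)` -/
noncomputable def coord (X : Type u) [CommRing X] [Algebra R X] :
    X ⊗[R] (ι →₀ R) ≃ₗ[X] (ι →₀ X) :=
  TensorProduct.finsuppScalarRight R X X ι

variable {R ι}

theorem coord_natural {X Y : Type u} [CommRing X] [Algebra R X] [CommRing Y] [Algebra R Y]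
    (f : X →ₐ[R] Y) (t : X ⊗[R] (ι →₀ R)) (n : ι) :
    coord R ι Y (f.toLinearMap.rTensor (ι →₀ R) t) n = f (coord R ι X t n) := by
  induction t using TensorProduct.induction_on with
  | zero => simp
  | add a b ha hb => simp only [map_add, Finsupp.add_apply, ha, hb]
  | tmul x p =>
    simp only [coord, LinearMap.rTensor_tmul, AlgHom.toLinearMap_apply]
    rw [TensorProduct.finsuppScalarRight_apply_tmul_apply,
      TensorProduct.finsuppScalarRight_apply_tmul_apply, map_smul]

end Coord

section Descent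

variable {R : Type u} [CommRing R] {Q S : Type u} [CommRing Q] [Algebra R Q] [CommRing S]
  [Algebra R S] {N : Type u} [AddCommGroup N] [Module R N]

/-- the evaluation map `Q[W] → S` extending `g` -/
noncomputable def evalHom (g : Q →ₐ[R] S) {l : ℕ} (m : Fin l → S) :
    MvPolynomial (Fin l) Q →ₐ[R] S :=
  { MvPolynomial.eval₂Hom g.toRingHom m with
    commutes' := fun r => by
      simp only [RingHom.toMonoidHom_eq_coe, OneHom.toFun_eq_coe, MonoidHom.toOneHom_coe,
        MonoidHom.coe_coe]
      rw [IsScalarTower.algebraMap_apply R Q (MvPolynomial (Fin l) Q), MvPolynomial.algebraMap_eq,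
        MvPolynomial.coe_eval₂Hom, MvPolynomial.eval₂_C]
      exact g.commutes r }

theorem evalHom_C (g : Q →ₐ[R] S) {l : ℕ} (m : Fin l → S) (q : Q) :
    evalHom g m (MvPolynomial.C q) = g q := by
  change MvPolynomial.eval₂ g.toRingHom m (MvPolynomial.C q) = g q
  rw [MvPolynomial.eval₂_C]
  rfl

theorem evalHom_X (g : Q →ₐ[R] S) {l : ℕ} (m : Fin l → S) (j : Fin l) :
    evalHom g m (MvPolynomial.X j) = m j := by
  change MvPolynomial.eval₂ g.toRingHom m (MvPolynomial.X j) = m j
  rw [MvPolynomial.eval₂_X]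

theorem lTensor_rTensor_comm {X Y : Type u} [CommRing X] [Algebra R X] [CommRing Y] [Algebra R Y]
    (f : X →ₗ[R] Y) {F N : Type u} [AddCommGroup F] [Module R F] [AddCommGroup N] [Module R N]
    (π : F →ₗ[R] N) (t : X ⊗[R] F) :
    π.lTensor Y (f.rTensor F t) = f.rTensor N (π.lTensor X t) := by
  rw [← LinearMap.comp_apply, ← LinearMap.comp_apply, LinearMap.lTensor_comp_rTensor,
    LinearMap.rTensor_comp_lTensor]

theorem exists_fp_descent (g : Q →ₐ[R] S) (z : Q ⊗[R] N)
    (hz : g.toLinearMap.rTensor N z = 0) :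
    ∃ (l : ℕ) (I : Ideal (MvPolynomial (Fin l) Q)) (_ : I.FG)
      (g' : (MvPolynomial (Fin l) Q ⧸ I) →ₐ[R] S),
      g'.comp ((Ideal.Quotient.mkₐ R I).comp
        (IsScalarTower.toAlgHom R Q (MvPolynomial (Fin l) Q))) = g ∧
      ((Ideal.Quotient.mkₐ R I).comp
        (IsScalarTower.toAlgHom R Q (MvPolynomial (Fin l) Q))).toLinearMap.rTensor N z = 0 := by
  classical
  let π : (N →₀ R) →ₗ[R] N := Finsupp.linearCombination R id
  have hπ : Function.Surjective π := Finsupp.linearCombination_id_surjective R N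
  have hexact : Function.Exact (LinearMap.ker π).subtype π := by
    intro x
    rw [← LinearMap.mem_ker]
    simp
  obtain ⟨zF, hzF⟩ := LinearMap.lTensor_surjective Q hπ z
  have hw : π.lTensor S (g.toLinearMap.rTensor (N →₀ R) zF) = 0 := by
    rw [lTensor_rTensor_comm, hzF, hz]
  obtain ⟨w', hw'⟩ := (@lTensor_exact R (LinearMap.ker π) (N →₀ R) N _ _ _ _ _ _ _
    (LinearMap.ker π).subtype π S _ _ hexact hπ (g.toLinearMap.rTensor (N →₀ R) zF)).mp hw
  obtain ⟨l, m, κ, hsum⟩ := TensorProduct.exists_sum_tmul_eq w'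
  let c : Q →ₐ[R] MvPolynomial (Fin l) Q := IsScalarTower.toAlgHom R Q (MvPolynomial (Fin l) Q)
  let e : MvPolynomial (Fin l) Q ⊗[R] (N →₀ R) :=
    c.toLinearMap.rTensor (N →₀ R) zF - ∑ j, (MvPolynomial.X j : MvPolynomial (Fin l) Q) ⊗ₜ[R] (κ j : N →₀ R)
  let ce := coord R N (MvPolynomial (Fin l) Q) e
  let I : Ideal (MvPolynomial (Fin l) Q) := Ideal.span ((ce.support.image ce : Finset _) : Set _)
  have hI : I.FG := ⟨ce.support.image ce, rfl⟩
  have hg₁c : (evalHom g m).comp c = g := by
    ext q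
    simp only [AlgHom.comp_apply, c, IsScalarTower.coe_toAlgHom', MvPolynomial.algebraMap_eq]
    exact evalHom_C g m q
  have hg₁e : (evalHom g m).toLinearMap.rTensor (N →₀ R) e = 0 := by
    simp only [e, map_sub, map_sum, LinearMap.rTensor_tmul, AlgHom.toLinearMap_apply, evalHom_X]
    rw [← LinearMap.rTensor_comp_apply, ← AlgHom.comp_toLinearMap, hg₁c, ← hw', hsum, map_sum]
    simp
  have hkill : ∀ x ∈ I, (evalHom g m) x = 0 := by
    intro x hx
    have hle : I ≤ RingHom.ker (evalHom g m).toRingHom := by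
      apply Ideal.span_le.mpr
      intro y hy
      rw [Finset.mem_coe, Finset.mem_image] at hy
      obtain ⟨n, _, rfl⟩ := hy
      rw [SetLike.mem_coe, RingHom.mem_ker]
      change (evalHom g m) (coord R N (MvPolynomial (Fin l) Q) e n) = 0
      rw [← coord_natural (evalHom g m) e n, hg₁e]
      simp
    exact hle hx
  refine ⟨l, I, hI, Ideal.Quotient.liftₐ I (evalHom g m) hkill, ?_, ?_⟩
  · ext q
    have := congrArg (fun f => f q) hg₁c
    simp only [AlgHom.comp_apply] at this
    simp only [AlgHom.comp_apply, Ideal.Quotient.mkₐ_eq_mk, Ideal.Quotient.liftₐ_apply,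
      Ideal.Quotient.lift_mk]
    exact this
  · have h1 : (Ideal.Quotient.mkₐ R I).toLinearMap.rTensor (N →₀ R) e = 0 := by
      apply (coord R N (MvPolynomial (Fin l) Q ⧸ I)).injective
      ext n
      rw [coord_natural (Ideal.Quotient.mkₐ R I) e n, map_zero, Finsupp.zero_apply]
      by_cases hn : ce n = 0
      · change (Ideal.Quotient.mkₐ R I) (ce n) = 0
        rw [hn, map_zero]
      · change (Ideal.Quotient.mk I) (ce n) = 0
        rw [Ideal.Quotient.eq_zero_iff_mem]
        apply Ideal.subset_span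
        rw [Finset.mem_coe, Finset.mem_image]
        exact ⟨n, Finsupp.mem_support_iff.mpr hn, rfl⟩
    have h3 : ((Ideal.Quotient.mkₐ R I).comp c).toLinearMap.rTensor (N →₀ R) zF =
        ∑ j, ((Ideal.Quotient.mkₐ R I) (MvPolynomial.X j)) ⊗ₜ[R] (κ j : N →₀ R) := by
      simp only [e, map_sub, map_sum, LinearMap.rTensor_tmul, AlgHom.toLinearMap_apply,
        sub_eq_zero] at h1
      rw [AlgHom.comp_toLinearMap, LinearMap.rTensor_comp_apply]
      exact h1
    change ((Ideal.Quotient.mkₐ R I).comp c).toLinearMap.rTensor N z = 0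
    rw [← hzF, ← lTensor_rTensor_comm, h3, map_sum]
    apply Finset.sum_eq_zero
    intro j _
    rw [LinearMap.lTensor_tmul, (κ j).2, tmul_zero]

end Descent

end Groth.Agent.Helper7.IndSmooth
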