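import Mathlib
import Groth.Prelude.Def_Smoothing
import Groth.Agent.Lib.Helper7.IndSmooth.Descent

set_option autoImplicit false

open TensorProduct

universe u

namespace Groth.Agent.Helper7.IndSmooth

variable {R : Type u} [CommRing R] {S : Type u} [CommRing S] [Algebra R S]

/-- an ind-smooth algebra is flat (equational criterion) -/
theorem flat_of_indSmooth (hS : Smoothing.IndSmooth R S) : Module.Flat R S := by
  classical
  apply Module.Flat.of_forall_isTrivialRelation
  intro l f x hfx
  let P := MvPolynomial (Fin l) R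
  let r : P := ∑ i, MvPolynomial.C (f i) * MvPolynomial.X i
  let I : Ideal P := Ideal.span {r}
  have hI : I.FG := ⟨{r}, by simp [I]⟩
  have hfp : Algebra.FinitePresentation R (P ⧸ I) := Algebra.FinitePresentation.quotient hI
  have hr : MvPolynomial.aeval x r = 0 := by
    simp only [r, map_sum, map_mul, MvPolynomial.aeval_C, MvPolynomial.aeval_X]
    rw [← hfx]
    refine Finset.sum_congr rfl fun i _ => ?_
    rw [Algebra.smul_def]
  have hkill : ∀ a ∈ I, (MvPolynomial.aeval x : P →ₐ[R] S) a = 0 := by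
    intro a ha
    have hle : I ≤ RingHom.ker (MvPolynomial.aeval x : P →ₐ[R] S).toRingHom := by
      apply Ideal.span_le.mpr
      intro b hb
      rw [Set.mem_singleton_iff] at hb
      rw [hb, SetLike.mem_coe, RingHom.mem_ker]
      exact hr
    exact hle ha
  let φ : (P ⧸ I) →ₐ[R] S := Ideal.Quotient.liftₐ I (MvPolynomial.aeval x) hkill
  obtain ⟨C, _, _, hC, g, h, hgh⟩ := hS (P ⧸ I) hfp φ
  have := hC
  have hrel : ∑ i, f i • g (Ideal.Quotient.mk I (MvPolynomial.X i)) = 0 := by
    have : g (Ideal.Quotient.mk I r) = 0 := by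
      rw [Ideal.Quotient.eq_zero_iff_mem.mpr (Ideal.subset_span (Set.mem_singleton r)), map_zero]
    rw [← this]
    simp only [r, map_sum, map_mul]
    refine Finset.sum_congr rfl fun i _ => ?_
    rw [Algebra.smul_def]
    congr 1
    have h1 : Ideal.Quotient.mk I (MvPolynomial.C (f i)) = algebraMap R (P ⧸ I) (f i) := rfl
    rw [h1, g.commutes]
  obtain ⟨k, a, y, hy1, hy2⟩ :=
    Module.Flat.isTrivialRelation_of_sum_smul_eq_zero (R := R) (M := C) hrel
  refine ⟨k, a, fun j => h (y j), fun i => ?_, hy2⟩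
  have hx : x i = h (g (Ideal.Quotient.mk I (MvPolynomial.X i))) := by
    have := congrArg (fun ψ => ψ (Ideal.Quotient.mk I (MvPolynomial.X i))) hgh
    simp only [AlgHom.comp_apply] at this
    rw [this]
    change x i = Ideal.Quotient.lift I _ _ (Ideal.Quotient.mk I (MvPolynomial.X i))
    rw [Ideal.Quotient.lift_mk]
    exact (MvPolynomial.aeval_X x i).symm
  have hy1' : g (Ideal.Quotient.mk I (MvPolynomial.X i)) = ∑ j, a i j • y j := hy1 i
  rw [hx, hy1', map_sum]
  refine Finset.sum_congr rfl fun j _ => ?_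
  rw [map_smul]


section Surj

variable {B : Type u} [CommRing B] [Algebra R B]

/-- the algebra tensor map as `rTensor` -/
theorem map_id_eq_rTensor {Q X : Type u} [CommRing Q] [Algebra R Q] [CommRing X] [Algebra R X]
    (φ : Q →ₐ[R] X) (t : Q ⊗[R] B) :
    Algebra.TensorProduct.map φ (AlgHom.id R B) t = φ.toLinearMap.rTensor B t := by
  induction t with
  | zero => simp
  | tmul q b => simp
  | add a b ha hb => rw [map_add, map_add, ha, hb]

theorem map_id_comp {Q X Y : Type u} [CommRing Q] [Algebra R Q] [CommRing X] [Algebra R X]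
    [CommRing Y] [Algebra R Y]
    (φ : Q →ₐ[R] X) (ψ : X →ₐ[R] Y) (t : Q ⊗[R] B) :
    Algebra.TensorProduct.map (ψ.comp φ) (AlgHom.id R B) t =
      Algebra.TensorProduct.map ψ (AlgHom.id R B) (Algebra.TensorProduct.map φ (AlgHom.id R B) t) := by
  induction t with
  | zero => simp
  | tmul q b => simp
  | add a b ha hb => rw [map_add, map_add, map_add, ha, hb]

/-- integrality transported along a base change of the coefficient ring -/
theorem isIntegral_map_of_eval₂_eq_zero {Q X : Type u} [CommRing Q] [Algebra R Q] [CommRing X]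
    [Algebra R X] (φ : Q →ₐ[R] X) (p : Polynomial Q) (hp : p.Monic) (yQ : Q ⊗[R] B)
    (h : Algebra.TensorProduct.map φ (AlgHom.id R B)
      (Polynomial.eval₂ (algebraMap Q (Q ⊗[R] B)) yQ p) = 0) :
    IsIntegral X (Algebra.TensorProduct.map φ (AlgHom.id R B) yQ) := by
  refine ⟨p.map φ.toRingHom, hp.map _, ?_⟩
  rw [Polynomial.eval₂_map]
  have hcomp : (algebraMap X (X ⊗[R] B)).comp φ.toRingHom =
      (Algebra.TensorProduct.map φ (AlgHom.id R B)).toRingHom.comp (algebraMap Q (Q ⊗[R] B)) := by
    ext q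
    simp [Algebra.TensorProduct.algebraMap_apply]
  rw [hcomp]
  have := Polynomial.hom_eval₂ p (algebraMap Q (Q ⊗[R] B))
    (Algebra.TensorProduct.map φ (AlgHom.id R B)).toRingHom yQ
  rw [← h]
  exact this.symm


theorem map_hom_eval₂ {Q X : Type u} [CommRing Q] [Algebra R Q] [CommRing X]
    [Algebra R X] (φ : Q →ₐ[R] X) (p : Polynomial Q) (yQ : Q ⊗[R] B) :
    Algebra.TensorProduct.map φ (AlgHom.id R B)
      (Polynomial.eval₂ (algebraMap Q (Q ⊗[R] B)) yQ p) =
    Polynomial.eval₂ (algebraMap X (X ⊗[R] B)) (Algebra.TensorProduct.map φ (AlgHom.id R B) yQ)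
      (p.map φ.toRingHom) := by
  rw [Polynomial.eval₂_map]
  have hcomp : (algebraMap X (X ⊗[R] B)).comp φ.toRingHom =
      (Algebra.TensorProduct.map φ (AlgHom.id R B)).toRingHom.comp (algebraMap Q (Q ⊗[R] B)) := by
    ext q
    simp [Algebra.TensorProduct.algebraMap_apply]
  rw [hcomp]
  exact Polynomial.hom_eval₂ p (algebraMap Q (Q ⊗[R] B))
    (Algebra.TensorProduct.map φ (AlgHom.id R B)).toRingHom yQ

theorem surjective_of_indSmooth (hS : Smoothing.IndSmooth R S) :
    Function.Surjective (TensorProduct.toIntegralClosure R S B) := by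
  classical
  rintro ⟨y, hy⟩
  obtain ⟨n, s, b, hsum⟩ := TensorProduct.exists_sum_tmul_eq y
  obtain ⟨p, hp, hpy⟩ := hy
  obtain ⟨d, hd⟩ : ∃ d, d = p.natDegree := ⟨_, rfl⟩
  let Q := MvPolynomial (Fin n ⊕ Fin d) R
  let g : Q →ₐ[R] S := MvPolynomial.aeval (Sum.elim s (fun k : Fin d => p.coeff (k : ℕ)))
  let yQ : Q ⊗[R] B := ∑ j, (MvPolynomial.X (Sum.inl j) : Q) ⊗ₜ[R] b j
  let pQ : Polynomial Q := Polynomial.X ^ d +
    ∑ k : Fin d, Polynomial.C (MvPolynomial.X (Sum.inr k) : Q) * Polynomial.X ^ (k : ℕ)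
  have hpQ : pQ.Monic := Polynomial.monic_X_pow_add (Polynomial.degree_sum_fin_lt _)
  have hpQmap : pQ.map g.toRingHom = p := by
    conv_rhs => rw [hp.as_sum, ← hd, Finset.sum_range]
    simp only [pQ, Polynomial.map_add, Polynomial.map_pow, Polynomial.map_X,
      Polynomial.map_sum, Polynomial.map_mul, Polynomial.map_C]
    congr 1
    refine Finset.sum_congr rfl fun k _ => ?_
    congr 2
    exact (MvPolynomial.aeval_X _ _).trans (by simp)
  have hgy : Algebra.TensorProduct.map g (AlgHom.id R B) yQ = y := by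
    rw [hsum]
    simp only [yQ, map_sum, Algebra.TensorProduct.map_tmul, AlgHom.id_apply]
    refine Finset.sum_congr rfl fun j _ => ?_
    congr 1
    exact (MvPolynomial.aeval_X _ _).trans (by simp)
  let z := Polynomial.eval₂ (algebraMap Q (Q ⊗[R] B)) yQ pQ
  have hz : g.toLinearMap.rTensor B z = 0 := by
    rw [← map_id_eq_rTensor, map_hom_eval₂, hpQmap, hgy]
    exact hpy
  obtain ⟨l, I, hI, g', hg', hz'⟩ := exists_fp_descent g z hz
  let ι : Q →ₐ[R] (MvPolynomial (Fin l) Q ⧸ I) := (Ideal.Quotient.mkₐ R I).comp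
        (IsScalarTower.toAlgHom R Q (MvPolynomial (Fin l) Q))
  have hfp : Algebra.FinitePresentation R (MvPolynomial (Fin l) Q ⧸ I) := by
    have h1 : Algebra.FinitePresentation R Q := inferInstance
    have h3 : Algebra.FinitePresentation R (MvPolynomial (Fin l) Q) := inferInstance
    exact Algebra.FinitePresentation.quotient hI
  obtain ⟨C, _, _, hC, a, h, hah⟩ := hS _ hfp g'
  have := hC
  have hcomp : h.comp (a.comp ι) = g := by
    rw [← AlgHom.comp_assoc, hah]
    exact hg'
  have hzC : Algebra.TensorProduct.map (a.comp ι) (AlgHom.id R B) z = 0 := by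
    rw [map_id_comp, map_id_eq_rTensor ι, hz', map_zero]
  have hyC : IsIntegral C (Algebra.TensorProduct.map (a.comp ι) (AlgHom.id R B) yQ) :=
    isIntegral_map_of_eval₂_eq_zero (a.comp ι) pQ hpQ yQ hzC
  obtain ⟨t, ht⟩ := (TensorProduct.toIntegralClosure_bijective_of_smooth (R := R) (S := C)
    (B := B)).2 ⟨_, hyC⟩
  refine ⟨Algebra.TensorProduct.map h (AlgHom.id R (integralClosure R B)) t, Subtype.ext ?_⟩
  have ht' : Algebra.TensorProduct.map (AlgHom.id C C) (integralClosure R B).val t =
      Algebra.TensorProduct.map (a.comp ι) (AlgHom.id R B) yQ := congrArg Subtype.val ht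
  change Algebra.TensorProduct.map (AlgHom.id S S) (integralClosure R B).val
    (Algebra.TensorProduct.map h (AlgHom.id R (integralClosure R B)) t) = y
  rw [← hgy, ← hcomp, map_id_comp (a.comp ι) h, ← ht']
  clear ht ht'
  induction t with
  | zero => simp
  | tmul c w => simp
  | add u v hu hv => rw [map_add, map_add, map_add, map_add, hu, hv]

end Surj

end Groth.Agent.Helper7.IndSmooth
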